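import Mathlib.RingTheory.Etale.Field
import Mathlib.RingTheory.Etale.Kaehler
import Mathlib.RingTheory.AlgebraicIndependent.TranscendenceBasis
import Mathlib.RingTheory.Localization.Integer
import Mathlib.RingTheory.Kaehler.Basic
import Mathlib.Algebra.MvPolynomial.Derivation
import Mathlib.RingTheory.Ideal.Cotangent
import Mathlib.RingTheory.Localization.AtPrime.Basic
import Mathlib.LinearAlgebra.TensorProduct.Tower
import Mathlib.Algebra.CharP.Algebra

/-! Algebraically independent functions have independent differentials at a general point, in characteristic zero. -/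

open TensorProduct KaehlerDifferential

universe u

namespace Groth.Agent.TanRank

variable {k : Type u} [Field k]

/-- The partial derivatives along algebraically independent elements, up to a common denominator. -/
theorem exists_derivations [CharZero k] {D : Type u} [CommRing D] [IsDomain D] [Algebra k D] [Algebra.FiniteType k D]
    {s : ℕ} (y : Fin s → D) (hy : AlgebraicIndependent k y) :
    ∃ g : D, g ≠ 0 ∧ ∃ δ : Fin s → Derivation k D D, ∀ i j, δ j (y i) = if i = j then g else 0 := by
  classical
  obtain ⟨T, hsub, hT⟩ := exists_isTranscendenceBasis_superset hy.to_subtype_range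
  let K := FractionRing D
  let P := MvPolynomial T k
  letI : Algebra P D := (MvPolynomial.aeval (Subtype.val : T → D)).toRingHom.toAlgebra
  haveI : IsScalarTower k P D := IsScalarTower.of_algebraMap_eq fun c => (AlgHom.commutes _ c).symm
  have hinj : Function.Injective (algebraMap P D) := hT.1
  haveI : FaithfulSMul P D := (faithfulSMul_iff_algebraMap_injective _ _).2 hinj
  haveI : Algebra.IsAlgebraic P D := by
    haveI := hT.isAlgebraic
    let e := hT.1.aevalEquiv
    exact Algebra.IsAlgebraic.of_ringHom_of_comp_eq (S := Algebra.adjoin k (Set.range (Subtype.val : T → D)))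
      (B := D) e.toRingHom (RingHom.id D) e.surjective Function.injective_id
      (RingHom.ext fun z => AlgebraicIndependent.algebraMap_aevalEquiv hT.1 z)
  haveI : CharZero K := charZero_of_injective_algebraMap ((algebraMap D K).comp (algebraMap k D)).injective
  haveI : CharZero P := charZero_of_injective_algebraMap (MvPolynomial.C_injective T k)
  let F := FractionRing P
  haveI : CharZero F := charZero_of_injective_algebraMap (IsFractionRing.injective P F)
  letI := FractionRing.liftAlgebra P K
  haveI : IsScalarTower P F K := FractionRing.isScalarTower_liftAlgebra P K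
  haveI : Algebra.IsAlgebraic D K := IsLocalization.isAlgebraic K (nonZeroDivisors D)
  haveI : Algebra.IsAlgebraic P K := Algebra.IsAlgebraic.trans P D K
  haveI : Algebra.IsAlgebraic F K := Algebra.IsAlgebraic.extendScalars (IsFractionRing.injective P F)
  haveI : Algebra.EssFiniteType k K := Algebra.EssFiniteType.comp k D K
  haveI : Algebra.EssFiniteType P K := Algebra.EssFiniteType.of_comp k P K
  haveI : Algebra.EssFiniteType F K := Algebra.EssFiniteType.of_comp P F K
  haveI : Algebra.FormallyEtale F K := Algebra.FormallyEtale.of_isSeparable F K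
  haveI : Algebra.FormallyEtale P F := Algebra.FormallyEtale.of_isLocalization (nonZeroDivisors P)
  haveI : Algebra.FormallyEtale P K := Algebra.FormallyEtale.comp P F K
  let e := tensorKaehlerEquivOfFormallyEtale k P K
  let pd : Fin s → Derivation k P K := fun j =>
    MvPolynomial.mkDerivation k fun i : T => if (i : D) = y j then 1 else 0
  let Δ : Fin s → Derivation k K K := fun j =>
    (((pd j).liftKaehlerDifferential.liftBaseChange K).comp e.symm.toLinearMap).compDer (KaehlerDifferential.D k K)
  have hΔ : ∀ i j, Δ j (algebraMap D K (y i)) = if i = j then 1 else 0 := fun i j => by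
    have hyi : y i ∈ T := hsub ⟨i, rfl⟩
    have h1 : algebraMap D K (y i) = algebraMap P K (MvPolynomial.X ⟨y i, hyi⟩) := by
      rw [IsScalarTower.algebraMap_apply P D K, RingHom.algebraMap_toAlgebra]
      exact congrArg (algebraMap D K) (MvPolynomial.aeval_X (Subtype.val : T → D) ⟨y i, hyi⟩).symm
    show ((pd j).liftKaehlerDifferential.liftBaseChange K) (e.symm (KaehlerDifferential.D k K (algebraMap D K (y i)))) = _
    rw [h1, tensorKaehlerEquivOfFormallyEtale_symm_D_algebraMap, LinearMap.liftBaseChange_tmul, one_smul,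
      Derivation.liftKaehlerDifferential_comp_D, MvPolynomial.mkDerivation_X]
    exact if_congr hy.injective.eq_iff rfl rfl
  obtain ⟨G, hG⟩ := Algebra.FiniteType.out (R := k) (A := D)
  obtain ⟨g, hg⟩ := IsLocalization.exist_integer_multiples (nonZeroDivisors D) (Finset.univ ×ˢ G)
    (fun p : Fin s × D => Δ p.1 (algebraMap D K p.2))
  have hall : ∀ j (a : D), ∃ b : D, algebraMap D K b = algebraMap D K g * Δ j (algebraMap D K a) := fun j a => by
    have ha : a ∈ Algebra.adjoin k (G : Set D) := hG ▸ Algebra.mem_top
    induction ha using Algebra.adjoin_induction with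
    | mem a ha =>
      obtain ⟨b, hb⟩ := hg (j, a) (Finset.mem_product.2 ⟨Finset.mem_univ _, ha⟩)
      exact ⟨b, hb.trans (Algebra.smul_def _ _)⟩
    | algebraMap c => exact ⟨0, by rw [← IsScalarTower.algebraMap_apply k D K, (Δ j).map_algebraMap, map_zero, mul_zero]⟩
    | add a b _ _ ha hb =>
      obtain ⟨a', ha'⟩ := ha
      obtain ⟨b', hb'⟩ := hb
      exact ⟨a' + b', by rw [map_add, map_add, map_add, mul_add, ha', hb']⟩
    | mul a b _ _ ha hb =>
      obtain ⟨a', ha'⟩ := ha
      obtain ⟨b', hb'⟩ := hb
      exact ⟨a * b' + b * a', by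
        rw [map_mul, (Δ j).leibniz, smul_eq_mul, smul_eq_mul, map_add, map_mul, map_mul, ha', hb']
        ring⟩
  choose δ hδ using hall
  have hinjK : Function.Injective (algebraMap D K) := IsFractionRing.injective D K
  refine ⟨g, nonZeroDivisors.coe_ne_zero g, fun j => Derivation.mk'
    { toFun := δ j
      map_add' := fun a b => hinjK (by rw [map_add, hδ, hδ, hδ, map_add, map_add, mul_add])
      map_smul' := fun c a => hinjK (by
        rw [RingHom.id_apply, Algebra.smul_def, Algebra.smul_def, map_mul, hδ, hδ, map_mul,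
          ← IsScalarTower.algebraMap_apply k D K, (Δ j).leibniz, (Δ j).map_algebraMap, smul_zero, add_zero, smul_eq_mul]
        ring) }
    fun a b => hinjK (by
      show algebraMap D K (δ j (a * b)) = algebraMap D K (a • δ j b + b • δ j a)
      rw [hδ, map_mul, (Δ j).leibniz]
      simp only [smul_eq_mul, map_add, map_mul, hδ]
      ring), fun i j => hinjK ?_⟩
  show algebraMap D K (δ j (y i)) = _
  rw [hδ, hΔ, apply_ite (algebraMap D K), map_zero, mul_ite, mul_one, mul_zero]

/-- Elements of a maximal ideal with dual functionals have independent classes in the cotangent space of the local ring. -/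
theorem linearIndependent_cotangent {A L : Type u} [CommRing A] [Algebra k A] (m : Ideal A) [m.IsMaximal]
    [CommRing L] [IsLocalRing L] [Algebra A L] [IsLocalization.AtPrime L m]
    (hk : Function.Surjective (algebraMap k (A ⧸ m))) {s : ℕ} (e : Fin s → A) (he : ∀ i, e i ∈ m)
    (ε : Fin s → A →ₗ[k] A ⧸ m)
    (hε : ∀ j a b, ε j (a * b) = Ideal.Quotient.mk m a * ε j b + Ideal.Quotient.mk m b * ε j a)
    (g : A ⧸ m) (hg : g ≠ 0) (h : ∀ i j, ε j (e i) = if i = j then g else 0)
    (hmem : ∀ i, algebraMap A L (e i) ∈ IsLocalRing.maximalIdeal L) :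
    LinearIndependent (IsLocalRing.ResidueField L)
      (fun i => (IsLocalRing.maximalIdeal L).toCotangent ⟨algebraMap A L (e i), hmem i⟩) := by
  letI := Ideal.Quotient.field m
  rw [Fintype.linearIndependent_iff]
  intro u hu j
  have hlift : ∀ z : IsLocalRing.ResidueField L, ∃ c : k, IsLocalRing.residue L (algebraMap A L (algebraMap k A c)) = z := by
    intro z
    obtain ⟨z, rfl⟩ := IsLocalRing.residue_surjective z
    obtain ⟨⟨a, t⟩, hat⟩ := IsLocalization.surj m.primeCompl z
    have ht : Ideal.Quotient.mk m (t : A) ≠ 0 := fun h0 => t.2 (Ideal.Quotient.eq_zero_iff_mem.1 h0)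
    obtain ⟨c, hc⟩ := hk (Ideal.Quotient.mk m a / Ideal.Quotient.mk m (t : A))
    refine ⟨c, ?_⟩
    have h1 : algebraMap k A c * t - a ∈ m := by
      rw [← Ideal.Quotient.eq_zero_iff_mem, map_sub, map_mul, sub_eq_zero, Ideal.Quotient.mk_algebraMap,
        hc, div_mul_cancel₀ _ ht]
    have h2 := (IsLocalization.AtPrime.to_map_mem_maximal_iff L m _).2 h1
    rw [← IsLocalRing.residue_eq_zero_iff, map_sub, map_sub, sub_eq_zero, map_mul, map_mul, ← hat, map_mul] at h2
    refine mul_right_cancel₀ ?_ h2
    rw [ne_eq, IsLocalRing.residue_eq_zero_iff]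
    exact fun h3 => t.2 ((IsLocalization.AtPrime.to_map_mem_maximal_iff L m _).1 h3)
  choose c hc using fun i => hlift (u i)
  let a : A := ∑ i, algebraMap k A (c i) * e i
  have ham : a ∈ m := Ideal.sum_mem _ fun i _ => m.mul_mem_left _ (he i)
  have ha2 : algebraMap A L a ∈ IsLocalRing.maximalIdeal L ^ 2 := by
    rw [← (IsLocalRing.maximalIdeal L).toCotangent_eq_zero ⟨algebraMap A L a,
      (IsLocalization.AtPrime.to_map_mem_maximal_iff L m _).2 ham⟩]
    refine Eq.trans ?_ hu
    have : (⟨algebraMap A L a, (IsLocalization.AtPrime.to_map_mem_maximal_iff L m _).2 ham⟩ :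
        IsLocalRing.maximalIdeal L) = ∑ i, algebraMap A L (algebraMap k A (c i)) • ⟨algebraMap A L (e i), hmem i⟩ := by
      apply Subtype.ext
      simp [a, map_sum, Algebra.smul_def]
    rw [this, map_sum]
    refine Finset.sum_congr rfl fun i _ => ?_
    rw [map_smul, ← hc i]
    rfl
  have ha3 : a ∈ m ^ 2 := by
    rw [← IsLocalization.AtPrime.map_eq_maximalIdeal m L, ← Ideal.map_pow,
      IsLocalization.algebraMap_mem_map_algebraMap_iff m.primeCompl L] at ha2
    obtain ⟨t, ht, hta⟩ := ha2
    obtain ⟨t', z, hz, htz⟩ := Ideal.IsMaximal.exists_inv ‹m.IsMaximal› ht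
    rw [show a = t' * (t * a) + z * a by linear_combination (-a) * htz]
    exact add_mem (Ideal.mul_mem_left _ _ hta) (by rw [pow_two]; exact Ideal.mul_mem_mul hz ham)
  have h0 : ε j a = 0 := by
    rw [pow_two] at ha3
    refine Submodule.mul_induction_on ha3 (fun x hx z hz => ?_) fun x z hx hz => by rw [map_add, hx, hz, add_zero]
    rw [hε, Ideal.Quotient.eq_zero_iff_mem.2 hx, Ideal.Quotient.eq_zero_iff_mem.2 hz, zero_mul, zero_mul, add_zero]
  rw [map_sum] at h0
  simp only [← Algebra.smul_def, map_smul, h, smul_ite, smul_zero, Finset.sum_ite_eq', Finset.mem_univ, if_true] at h0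
  rw [← hc j, (smul_eq_zero.1 h0).resolve_right hg, map_zero, map_zero, map_zero]

end Groth.Agent.TanRank
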